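import Groth.Agent.FEtFF.PurityGlobal
import Groth.Agent.FEtFF.PurityCI
import Groth.Agent.FEtFF.PurityTransfer
import Groth.Agent.FEtFF.Punctured
import Groth.Agent.FEtFF.Generic
import Groth.Agent.FEtFF.UnivHomeo
import Groth.Agent.FEtFF.Hypersurface
import Groth.Agent.CAlgH.CIPresentation
import Groth.Prelude.Def_SGA2

/-!
# Depth two and purity for regular local rings and complete intersections, light imports
-/

set_option autoImplicit false
set_option linter.style.haveILetI false
set_option backward.isDefEq.respectTransparency.types false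

universe u

open CategoryTheory CategoryTheory.Limits AlgebraicGeometry Opposite TopologicalSpace IsLocalRing
open Groth.Agent.FEtFF

namespace Groth.Agent.Et18.PurityDepth

/-- Absolute complete intersections of dimension at least three have depth at least two and satisfy purity. -/
theorem depth_purity_of_absCI (A : Type u) [CommRing A] [IsNoetherianRing A] [IsLocalRing A]
    (hA : SGA2.IsAbsCompleteIntersection A) (hd : (3 : WithBot ℕ∞) ≤ ringKrullDim A) :
    (2 : ℕ∞) ≤ _root_.LocCoh.depth A A ∧ FEt.PurityHolds A := by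
  obtain ⟨B, _, _, rs, hm, hreg, ⟨e⟩⟩ := hA
  let π : B →+* A := e.symm.toRingHom.comp (Ideal.Quotient.mk _)
  have hk : RingHom.ker π = Ideal.ofList rs := by
    ext x
    show e.symm (Ideal.Quotient.mk _ x) = 0 ↔ _
    rw [map_eq_zero_iff _ e.symm.injective, Ideal.Quotient.eq_zero_iff_mem]
  have hCI : Pi1.IsCompleteIntersection A :=
    (CAlgH.CIPresentation.isCompleteIntersection_iff π (e.symm.surjective.comp Ideal.Quotient.mk_surjective)).2
      ⟨rs, hreg, hk.symm⟩
  refine ⟨?_, PurityCI.purityHolds_of_completeIntersection A hCI hd⟩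
  have hset : Ideal.ofList rs.reverse = Ideal.span {r | r ∈ rs} := by
    simp [Ideal.ofList]
  let e' : B ⧸ Ideal.ofList rs.reverse ≃+* A := (Ideal.quotEquivOfEq hset).trans e.symm
  haveI : Nontrivial (B ⧸ Ideal.ofList rs.reverse) := e'.symm.injective.nontrivial
  haveI : IsLocalRing (B ⧸ Ideal.ofList rs.reverse) := .of_surjective' _ Ideal.Quotient.mk_surjective
  have hrev := PurityCI.revRegular_of_isWeaklyRegular rs hreg.toIsWeaklyRegular
  have hmem : ∀ x ∈ rs.reverse, x ∈ maximalIdeal B := fun x hx => hm x (List.mem_reverse.1 hx)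
  have hdim : (3 : WithBot ℕ∞) + rs.length ≤ ((maximalIdeal B).spanFinrank : WithBot ℕ∞) := by
    rw [IsRegularLocalRing.spanFinrank_maximalIdeal]
    calc (3 : WithBot ℕ∞) + rs.length ≤ ringKrullDim A + rs.length := add_le_add hd le_rfl
      _ = ringKrullDim (B ⧸ Ideal.ofList rs) + rs.length := by
          rw [ringKrullDim_eq_of_ringEquiv (e.trans (Ideal.quotEquivOfEq rfl))]
      _ = ringKrullDim B := ringKrullDim_add_length_eq_ringKrullDim_of_isRegular rs hreg
  have hd3 : rs.reverse.length + 3 ≤ (maximalIdeal B).spanFinrank := by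
    rw [List.length_reverse]
    have h1 : ((3 + rs.length : ℕ) : WithBot ℕ∞) ≤ ((maximalIdeal B).spanFinrank : WithBot ℕ∞) := by exact_mod_cast hdim
    have : 3 + rs.length ≤ (maximalIdeal B).spanFinrank := by exact_mod_cast h1
    omega
  rw [← CAlgH3.depth_ringEquiv e']
  exact le_trans (by norm_num) (PurityCI.three_le_depth rs.reverse hmem hrev hd3)

theorem purityHolds_of_regular (A : Type u) [CommRing A] [IsRegularLocalRing A] (h : 2 ≤ ringKrullDim A) :
    FEt.PurityHolds A := by
  have hd := (isRegularLocalRing_iff A).1 inferInstance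
  refine PurityTransfer.purityHolds_of_forall A fun {W} v _ _ => ?_
  obtain ⟨Z, z, hz, hz', i, hi⟩ := Hypersurface.exists_extension_of_regular
    (IsLocalRing.maximalIdeal A).spanFinrank A (by rw [← hd] at h; exact_mod_cast h) rfl v
  refine ⟨Z, z, hz, hz', i.inv ≫ pullback.fst _ _, ?_⟩
  refine (IsPullback.of_hasPullback z (FEt.puncturedSpec A).ι).of_iso i (Iso.refl _) (Iso.refl _) (Iso.refl _)
    ?_ ?_ (by simp) (by simp)
  · simp
  · simp [hi]

theorem depth_purity_of_regular (A : Type u) [CommRing A] [IsRegularLocalRing A]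
    (hd : (2 : WithBot ℕ∞) ≤ ringKrullDim A) :
    (2 : ℕ∞) ≤ _root_.LocCoh.depth A A ∧ FEt.PurityHolds A := by
  refine ⟨?_, purityHolds_of_regular A hd⟩
  rw [← CAlgH3.depth_eq_ringKrullDim] at hd
  exact WithBot.coe_le_coe.1 hd

theorem restrict_isEquivalence_of_isIso {A B : Scheme.{u}} (r : A ⟶ B) [IsIso r] : (FEt.restrict r).IsEquivalence := by
  obtain ⟨h1, h2⟩ := restrict_iso_full_faithful r
  haveI := UnivHomeo.restrict_essSurj r
  exact { }

/-- Restriction along a composite. -/
noncomputable def restrictCompIso {A B C : Scheme.{u}} (i : A ⟶ B) (j : B ⟶ C) (k : A ⟶ C) (h : k = i ≫ j) :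
    FEt.restrict k ≅ FEt.restrict j ⋙ FEt.restrict i :=
  MorphismProperty.Over.pullbackComp (P := FEt.prop) (Q := ⊤) i j k h

end Groth.Agent.Et18.PurityDepth
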